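import Groth.Prelude.Def_DTen5
import Groth.Agent.S14623

/-!
# Extension of scalars commutes with the tensor product of complexes

For `φ : R →+* R'` and complexes `T`, `K` of `R`-modules, the canonical map
`thetaAdj : ext (T ⊗ K) ⟶ ext T ⊗ ext K` (adjunct of `(unit ⊗ unit) ≫ resTenCx`) is an isomorphism.
-/

set_option autoImplicit false
universe u
open CategoryTheory CategoryTheory.Limits MonoidalCategory

namespace Groth.Agent.Lib.Helper25.RHomBC

variable {R R' : Type u} [CommRing R] [CommRing R'] (φ : R →+* R')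

/-- the module-level adjunction -/
noncomputable abbrev adjM : ModuleCat.extendScalars.{u, u, u} φ ⊣ ModuleCat.restrictScalars.{u} φ :=
  ModuleCat.extendRestrictScalarsAdj.{u, u, u} φ

/-- the chain-level map `T ⊗ K ⟶ res (ext T ⊗ ext K)` -/
noncomputable def theta (T K : DRing.Cx R) :
    (DTen.tensorT R).obj (T, K) ⟶
      (DTen.resCx φ).obj ((DTen.tensorT R').obj ((DTen.extCx φ).obj T, (DTen.extCx φ).obj K)) :=
  ((DTen.unitCx φ).app T ⊗ₘ (DTen.unitCx φ).app K) ≫
    DTen.resTenCx φ ((DTen.extCx φ).obj T) ((DTen.extCx φ).obj K)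

/-- its adjunct `ext (T ⊗ K) ⟶ ext T ⊗ ext K` -/
noncomputable def thetaAdj (T K : DRing.Cx R) :
    (DTen.extCx φ).obj ((DTen.tensorT R).obj (T, K)) ⟶
      (DTen.tensorT R').obj ((DTen.extCx φ).obj T, (DTen.extCx φ).obj K) :=
  (DTen.extCx φ).map (theta φ T K) ≫
    Groth.Agent.S14623.counitApp (adjM φ) (ComplexShape.up ℤ)
      ((DTen.tensorT R').obj ((DTen.extCx φ).obj T, (DTen.extCx φ).obj K))

theorem unitCx_eq (T : DRing.Cx R) :
    (DTen.unitCx φ).app T = Groth.Agent.S14623.unitApp (adjM φ) (ComplexShape.up ℤ) T := rfl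

theorem unitCx_thetaAdj (T K : DRing.Cx R) :
    (DTen.unitCx φ).app ((DTen.tensorT R).obj (T, K)) ≫ (DTen.resCx φ).map (thetaAdj φ T K) =
      theta φ T K := by
  rw [thetaAdj, Functor.map_comp, unitCx_eq]
  have h1 := Groth.Agent.S14623.unitApp_naturality (adjM φ) (ComplexShape.up ℤ) (theta φ T K)
  have h2 := Groth.Agent.S14623.right_triangle_app (adjM φ) (ComplexShape.up ℤ)
    ((DTen.tensorT R').obj ((DTen.extCx φ).obj T, (DTen.extCx φ).obj K))
  rw [← Category.assoc]
  erw [← h1]
  rw [Category.assoc]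
  erw [h2]
  exact Category.comp_id _

open Functor.OplaxMonoidal Functor.LaxMonoidal in
/-- module level: `(unit ⊗ unit) ≫ resTen₀app = unit ≫ res δ` -/
theorem unit_tensor_unit (M N : ModuleCat.{u} R) :
    ((adjM φ).unit.app M ⊗ₘ (adjM φ).unit.app N) ≫
        DTen.resTen₀app φ ((ModuleCat.extendScalars.{u, u, u} φ).obj M)
          ((ModuleCat.extendScalars.{u, u, u} φ).obj N) =
      (adjM φ).unit.app (M ⊗ N) ≫
        (ModuleCat.restrictScalars.{u} φ).map (δ (ModuleCat.extendScalars.{u, u, u} φ) M N) :=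
  ModuleCat.hom_ext (TensorProduct.ext' (fun _ _ => rfl))

theorem ext_unit_res_counit {M : ModuleCat.{u} R} {N : ModuleCat.{u} R'}
    (g : (ModuleCat.extendScalars.{u, u, u} φ).obj M ⟶ N) :
    (ModuleCat.extendScalars.{u, u, u} φ).map
        ((adjM φ).unit.app M ≫ (ModuleCat.restrictScalars.{u} φ).map g) ≫
      (adjM φ).counit.app N = g := by
  rw [Functor.map_comp, Category.assoc]
  erw [(adjM φ).counit.naturality g]
  rw [← Category.assoc]
  erw [(adjM φ).left_triangle_components M]
  exact Category.id_comp _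

open Functor.OplaxMonoidal in
/-- the summand formula for `thetaAdj` -/
theorem ι_thetaAdj (T K : DRing.Cx R) (p q n : ℤ) (h : p + q = n) :
    (ModuleCat.extendScalars.{u, u, u} φ).map (HomologicalComplex.ιTensorObj T K p q n h) ≫
        (thetaAdj φ T K).f n =
      δ (ModuleCat.extendScalars.{u, u, u} φ) (T.X p) (K.X q) ≫
        HomologicalComplex.ιTensorObj ((DTen.extCx φ).obj T) ((DTen.extCx φ).obj K) p q n h := by
  have h1 : HomologicalComplex.ιTensorObj T K p q n h ≫ (theta φ T K).f n =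
      (adjM φ).unit.app (T.X p ⊗ K.X q) ≫ (ModuleCat.restrictScalars.{u} φ).map
        (δ (ModuleCat.extendScalars.{u, u, u} φ) (T.X p) (K.X q) ≫
          HomologicalComplex.ιTensorObj ((DTen.extCx φ).obj T) ((DTen.extCx φ).obj K) p q n h) := by
    rw [Functor.map_comp, ← Category.assoc, ← unit_tensor_unit]
    dsimp only [theta]
    rw [HomologicalComplex.comp_f, ← Category.assoc]
    change (HomologicalComplex.ιTensorObj T K p q n h ≫
      (HomologicalComplex.mapBifunctorMap ((DTen.unitCx φ).app T) ((DTen.unitCx φ).app K) _ _).f n) ≫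
        _ = _
    erw [HomologicalComplex.ι_mapBifunctorMap]
    simp only [Category.assoc]
    erw [DTen.ι_resTenCx φ ((DTen.extCx φ).obj T) ((DTen.extCx φ).obj K) p q n h]
    rw [MonoidalCategory.tensorHom_def]
    simp only [Category.assoc]
    rfl
  have h2 : (thetaAdj φ T K).f n = (ModuleCat.extendScalars.{u, u, u} φ).map ((theta φ T K).f n) ≫
      (adjM φ).counit.app _ := rfl
  rw [h2, ← Category.assoc, ← Functor.map_comp, h1]
  exact ext_unit_res_counit φ _

/-- maps out of `ext ((T ⊗ K)^n)` are determined on the summands -/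
theorem ext_hom_ext (T K : DRing.Cx R) (n : ℤ) {N : ModuleCat.{u} R'}
    {f g : (ModuleCat.extendScalars.{u, u, u} φ).obj (((DTen.tensorT R).obj (T, K)).X n) ⟶ N}
    (hfg : ∀ (p q : ℤ) (h : p + q = n),
      (ModuleCat.extendScalars.{u, u, u} φ).map (HomologicalComplex.ιTensorObj T K p q n h) ≫ f =
        (ModuleCat.extendScalars.{u, u, u} φ).map (HomologicalComplex.ιTensorObj T K p q n h) ≫ g) :
    f = g := by
  apply ((adjM φ).homEquiv _ _).injective
  refine HomologicalComplex.mapBifunctor.hom_ext (fun p q h => ?_)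
  have e1 := (adjM φ).homEquiv_naturality_left (HomologicalComplex.ιTensorObj T K p q n h) f
  have e2 := (adjM φ).homEquiv_naturality_left (HomologicalComplex.ιTensorObj T K p q n h) g
  exact e1.symm.trans ((congrArg _ (hfg p q h)).trans e2)

open Functor.OplaxMonoidal Functor.LaxMonoidal in
/-- the inverse of `thetaAdj` in degree `n` -/
noncomputable def thetaInv (T K : DRing.Cx R) (n : ℤ) :
    ((DTen.tensorT R').obj ((DTen.extCx φ).obj T, (DTen.extCx φ).obj K)).X n ⟶
      (ModuleCat.extendScalars.{u, u, u} φ).obj (((DTen.tensorT R).obj (T, K)).X n) :=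
  HomologicalComplex.mapBifunctorDesc (fun p q h =>
    μ (ModuleCat.extendScalars.{u, u, u} φ) (T.X p) (K.X q) ≫
      (ModuleCat.extendScalars.{u, u, u} φ).map (HomologicalComplex.ιTensorObj T K p q n h))

open Functor.OplaxMonoidal Functor.LaxMonoidal in
theorem ι_thetaInv (T K : DRing.Cx R) (p q n : ℤ) (h : p + q = n) :
    HomologicalComplex.ιTensorObj ((DTen.extCx φ).obj T) ((DTen.extCx φ).obj K) p q n h ≫
        thetaInv φ T K n =
      μ (ModuleCat.extendScalars.{u, u, u} φ) (T.X p) (K.X q) ≫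
        (ModuleCat.extendScalars.{u, u, u} φ).map (HomologicalComplex.ιTensorObj T K p q n h) := by
  dsimp only [thetaInv]
  exact HomologicalComplex.ι_mapBifunctorDesc _ p q h

open Functor.OplaxMonoidal Functor.LaxMonoidal in
theorem thetaAdj_thetaInv (T K : DRing.Cx R) (n : ℤ) :
    (thetaAdj φ T K).f n ≫ thetaInv φ T K n = 𝟙 _ := by
  refine ext_hom_ext φ T K n (fun p q h => ?_)
  refine (Category.assoc _ _ _).symm.trans ?_
  refine (congrArg (fun t => t ≫ thetaInv φ T K n) (ι_thetaAdj φ T K p q n h)).trans ?_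
  refine (Category.assoc _ _ _).trans ?_
  refine (congrArg (fun t => δ (ModuleCat.extendScalars.{u, u, u} φ) (T.X p) (K.X q) ≫ t)
    (ι_thetaInv φ T K p q n h)).trans ?_
  refine (Category.assoc _ _ _).symm.trans ?_
  refine (congrArg (fun t => t ≫ (ModuleCat.extendScalars.{u, u, u} φ).map
    (HomologicalComplex.ιTensorObj T K p q n h))
    (Functor.Monoidal.δ_μ (ModuleCat.extendScalars.{u, u, u} φ) (T.X p) (K.X q))).trans ?_
  exact (Category.id_comp _).trans (Category.comp_id _).symm

open Functor.OplaxMonoidal Functor.LaxMonoidal in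
theorem thetaInv_thetaAdj (T K : DRing.Cx R) (n : ℤ) :
    thetaInv φ T K n ≫ (thetaAdj φ T K).f n = 𝟙 _ := by
  refine HomologicalComplex.mapBifunctor.hom_ext (fun p q h => ?_)
  refine (Category.assoc _ _ _).symm.trans ?_
  refine (congrArg (fun t => t ≫ (thetaAdj φ T K).f n) (ι_thetaInv φ T K p q n h)).trans ?_
  refine (Category.assoc _ _ _).trans ?_
  refine (congrArg (fun t => μ (ModuleCat.extendScalars.{u, u, u} φ) (T.X p) (K.X q) ≫ t)
    (ι_thetaAdj φ T K p q n h)).trans ?_
  refine (Category.assoc _ _ _).symm.trans ?_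
  refine (congrArg (fun t => t ≫
    HomologicalComplex.ιTensorObj ((DTen.extCx φ).obj T) ((DTen.extCx φ).obj K) p q n h)
    (Functor.Monoidal.μ_δ (ModuleCat.extendScalars.{u, u, u} φ) (T.X p) (K.X q))).trans ?_
  exact (Category.id_comp _).trans (Category.comp_id _).symm

instance isIso_thetaAdj (T K : DRing.Cx R) : IsIso (thetaAdj φ T K) := by
  have : ∀ n, IsIso ((thetaAdj φ T K).f n) := fun n =>
    ⟨thetaInv φ T K n, thetaAdj_thetaInv φ T K n, thetaInv_thetaAdj φ T K n⟩
  exact HomologicalComplex.Hom.isIso_of_components _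

end Groth.Agent.Lib.Helper25.RHomBC
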