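import Groth.Agent.Lib.Helper25.RHomBC.Mu

/-!
# `DTen.rhomBC` is an isomorphism
-/

set_option autoImplicit false
universe u
open CategoryTheory CategoryTheory.Limits MonoidalCategory DerivedCategory

attribute [local instance] HasDerivedCategory.standard

namespace Groth.Agent.Lib.Helper25.RHomBC

variable {R R' : Type u} [CommRing R] [CommRing R'] (φ : R →+* R')
  [DTen.HasLTen R] [DTen.HasLTen R'] [DTen.HasRHom R] [DTen.HasRHom R'] [DTen.HasLBase φ]
  [DTen.HasResTen φ] [DTen.ResLegIso φ]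

variable (K : Dual.D R) (M : Dual.D R') (T : Dual.D R)

/-- the first chain of adjunction bijections -/
noncomputable def Phi₁ :
    (T ⟶ (DRing.restrictD φ).obj ((DTen.RHomR R' ((DTen.LBase φ).obj K)).obj M)) ≃
      ((DTen.LTen₂ R').obj ((DTen.LBase φ).obj T, (DTen.LBase φ).obj K) ⟶ M) :=
  ((DTen.baseAdj φ).homEquiv T _).symm.trans
    (DTen.rhomHomEquiv ((DTen.LBase φ).obj T) ((DTen.LBase φ).obj K) M).symm

/-- the second chain of adjunction bijections -/
noncomputable def Phi₂ :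
    (T ⟶ (DTen.RHomR R K).obj ((DRing.restrictD φ).obj M)) ≃
      ((DTen.LBase φ).obj ((DTen.LTen₂ R).obj (T, K)) ⟶ M) :=
  (DTen.rhomHomEquiv T K ((DRing.restrictD φ).obj M)).symm.trans
    ((DTen.baseAdj φ).homEquiv _ M).symm

theorem Phi₂_comp_rhomBC
    (x : T ⟶ (DRing.restrictD φ).obj ((DTen.RHomR R' ((DTen.LBase φ).obj K)).obj M)) :
    Phi₂ φ K M T (x ≫ DTen.rhomBC φ K M) = mu φ T K ≫ Phi₁ φ K M T x := by
  apply ((DTen.baseAdj φ).homEquiv _ _).injective
  dsimp only [Phi₂, Phi₁, Equiv.trans_apply]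
  rw [Equiv.apply_symm_apply]
  erw [Adjunction.homEquiv_unit]
  rw [Functor.map_comp, ← Category.assoc, unit_mu]
  -- write `x` through its adjunct
  set x' := ((DTen.baseAdj φ).homEquiv T _).symm x with hx'
  have hx : x = (DTen.baseAdj φ).unit.app T ≫ (DRing.restrictD φ).map x' := by
    rw [hx']
    erw [← (DTen.baseAdj φ).homEquiv_unit]
    exact (Equiv.apply_symm_apply _ _).symm
  have e1 : (DTen.rhomHomEquiv T K ((DRing.restrictD φ).obj M)).symm (x ≫ DTen.rhomBC φ K M) =
      (DTen.tensorRightD R K).map x ≫ DTen.rhomBCCore φ K M := by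
    erw [(DTen.rhomAdj R K).homEquiv_counit]
    rw [Functor.map_comp, Category.assoc]
    congr 1
    exact DTen.rhomBC_fac φ K M
  have e2 : (DTen.rhomHomEquiv ((DTen.LBase φ).obj T) ((DTen.LBase φ).obj K) M).symm x' =
      (DTen.LTen₂ R').map (Prod.mkHom x' (𝟙 _)) ≫ DTen.ev ((DTen.LBase φ).obj K) M := by
    erw [(DTen.rhomAdj R' ((DTen.LBase φ).obj K)).homEquiv_counit]
    rfl
  rw [e1, e2, Functor.map_comp, ← Category.assoc (alpha φ T K)]
  have e3 := resPF_naturality φ x' (𝟙 ((DTen.LBase φ).obj K))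
  have e5 : alpha φ T K ≫ (DRing.restrictD φ).map
      ((DTen.LTen₂ R').map (Prod.mkHom x' (𝟙 ((DTen.LBase φ).obj K)))) =
      (DTen.LTen₂ R).map (Prod.mkHom x ((DTen.baseAdj φ).unit.app K)) ≫
        (DTen.resPF φ).app ((DTen.RHomR R' ((DTen.LBase φ).obj K)).obj M, (DTen.LBase φ).obj K) := by
    dsimp only [alpha]
    refine (Category.assoc _ _ _).trans ?_
    refine (congrArg (fun t => (DTen.LTen₂ R).map (Prod.mkHom ((DTen.baseAdj φ).unit.app T)
      ((DTen.baseAdj φ).unit.app K)) ≫ t) e3.symm).trans ?_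
    refine (Category.assoc _ _ _).symm.trans ?_
    refine congrArg (fun t => t ≫ (DTen.resPF φ).app
      ((DTen.RHomR R' ((DTen.LBase φ).obj K)).obj M, (DTen.LBase φ).obj K)) ?_
    refine ((DTen.LTen₂ R).map_comp _ _).symm.trans ?_
    congr 1
    refine Prod.ext ?_ ?_
    · exact hx.symm
    · dsimp
      rw [CategoryTheory.Functor.map_id]
      exact Category.comp_id _
  rw [e5]
  dsimp only [DTen.rhomBCCore]
  have e4 : (DTen.tensorRightD R K).map x = (DTen.LTen₂ R).map (Prod.mkHom x (𝟙 K)) := rfl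
  rw [e4, Category.assoc, ← Category.assoc ((DTen.LTen₂ R).map (Prod.mkHom x (𝟙 K))),
    ← Functor.map_comp]
  congr 2
  refine Prod.ext ?_ ?_
  · exact Category.comp_id _
  · exact Category.id_comp _

theorem isIso_rhomBC : IsIso (DTen.rhomBC φ K M) := by
  refine isIso_of_yoneda_map_bijective _ (fun T => ?_)
  have hμ := isIso_mu φ T K
  have h : (fun x => x ≫ DTen.rhomBC φ K M) =
      (Phi₂ φ K M T).symm ∘ (fun y => mu φ T K ≫ y) ∘ (Phi₁ φ K M T) := by
    funext x
    dsimp only [Function.comp]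
    rw [← Phi₂_comp_rhomBC, Equiv.symm_apply_apply]
  rw [h]
  refine (Phi₂ φ K M T).symm.bijective.comp (Function.Bijective.comp ?_ (Phi₁ φ K M T).bijective)
  constructor
  · intro y y' hy
    exact (cancel_epi (mu φ T K)).1 hy
  · intro z
    exact ⟨inv (mu φ T K) ≫ z, by simp⟩

end Groth.Agent.Lib.Helper25.RHomBC
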