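import Groth.Agent.Lib.Helper25.RHomBC.ExtTensor
import Groth.Agent.Lib.Helper25.BaseCmp
import Groth.Agent.Lib.Helper25.LTenCompute
import Groth.Agent.Lib.Helper25.KFlatBC

/-!
# Derived base change is monoidal

`mu φ T K : (T ⊗^L K) ⊗^L_R R' ⟶ (T ⊗^L_R R') ⊗^L_{R'} (K ⊗^L_R R')` is an isomorphism.
-/

set_option autoImplicit false
universe u
open CategoryTheory CategoryTheory.Limits MonoidalCategory DerivedCategory

attribute [local instance] HasDerivedCategory.standard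

namespace Groth.Agent.Lib.Helper25.RHomBC

open Groth.Agent.Lib.Helper25.KFlat

variable {R R' : Type u} [CommRing R] [CommRing R'] (φ : R →+* R')
  [DTen.HasLTen R] [DTen.HasLTen R'] [DTen.HasLBase φ] [DTen.HasResTen φ] [DTen.ResLegIso φ]

/-- `T ⊗^L K ⟶ res (L T ⊗^L L K)` -/
noncomputable def alpha (T K : Dual.D R) :
    (DTen.LTen₂ R).obj (T, K) ⟶
      (DRing.restrictD φ).obj ((DTen.LTen₂ R').obj ((DTen.LBase φ).obj T, (DTen.LBase φ).obj K)) :=
  (DTen.LTen₂ R).map (Prod.mkHom ((DTen.baseAdj φ).unit.app T) ((DTen.baseAdj φ).unit.app K)) ≫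
    (DTen.resPF φ).app ((DTen.LBase φ).obj T, (DTen.LBase φ).obj K)

/-- the monoidality comparison of derived base change -/
noncomputable def mu (T K : Dual.D R) :
    (DTen.LBase φ).obj ((DTen.LTen₂ R).obj (T, K)) ⟶
      (DTen.LTen₂ R').obj ((DTen.LBase φ).obj T, (DTen.LBase φ).obj K) :=
  ((DTen.baseAdj φ).homEquiv _ _).symm (alpha φ T K)

theorem unit_mu (T K : Dual.D R) :
    (DTen.baseAdj φ).unit.app ((DTen.LTen₂ R).obj (T, K)) ≫ (DRing.restrictD φ).map (mu φ T K) =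
      alpha φ T K := by
  rw [mu]
  erw [← (DTen.baseAdj φ).homEquiv_unit]
  exact Equiv.apply_symm_apply _ _

omit [DTen.HasLBase φ] in
theorem resPF_naturality {E₁ E₂ F₁ F₂ : Dual.D R'} (a : E₁ ⟶ E₂) (b : F₁ ⟶ F₂) :
    (DTen.LTen₂ R).map (Prod.mkHom ((DRing.restrictD φ).map a) ((DRing.restrictD φ).map b)) ≫
        (DTen.resPF φ).app (E₂, F₂) =
      (DTen.resPF φ).app (E₁, F₁) ≫ (DRing.restrictD φ).map ((DTen.LTen₂ R').map (Prod.mkHom a b)) :=
  (DTen.resPF φ).naturality (Prod.mkHom a b : (E₁, F₁) ⟶ (E₂, F₂))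

theorem alpha_naturality {T T' K K' : Dual.D R} (f : T ⟶ T') (g : K ⟶ K') :
    (DTen.LTen₂ R).map (Prod.mkHom f g) ≫ alpha φ T' K' =
      alpha φ T K ≫ (DRing.restrictD φ).map
        ((DTen.LTen₂ R').map (Prod.mkHom ((DTen.LBase φ).map f) ((DTen.LBase φ).map g))) := by
  have h1 := (DTen.baseAdj φ).unit.naturality f
  have h2 := (DTen.baseAdj φ).unit.naturality g
  dsimp at h1 h2
  dsimp only [alpha]
  rw [Category.assoc, ← resPF_naturality, ← Category.assoc, ← Category.assoc,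
    ← Functor.map_comp, ← Functor.map_comp]
  congr 2
  exact Prod.ext h1 h2

theorem mu_naturality {T T' K K' : Dual.D R} (f : T ⟶ T') (g : K ⟶ K') :
    (DTen.LBase φ).map ((DTen.LTen₂ R).map (Prod.mkHom f g)) ≫ mu φ T' K' =
      mu φ T K ≫ (DTen.LTen₂ R').map (Prod.mkHom ((DTen.LBase φ).map f) ((DTen.LBase φ).map g)) := by
  dsimp only [mu]
  rw [← Adjunction.homEquiv_naturality_left_symm, ← Adjunction.homEquiv_naturality_right_symm,
    alpha_naturality]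

section KFlatCase

variable (T₀ K₀ : DRing.Cx R)

/-- the pair `(ext T₀, ext K₀)` -/
noncomputable abbrev extPair : DRing.Cx R' × DRing.Cx R' :=
  ((DTen.extCx φ).obj T₀, (DTen.extCx φ).obj K₀)

theorem E1 :
    alpha φ (Q.obj T₀) (Q.obj K₀) ≫ (DRing.restrictD φ).map ((DTen.LTen₂ R').map
        (Prod.mkHom ((DTen.baseCmp φ).app T₀) ((DTen.baseCmp φ).app K₀))) =
      (DTen.LTen₂ R).map (Prod.mkHom ((DTen.baseγ φ).app T₀) ((DTen.baseγ φ).app K₀)) ≫
        (DTen.resPF φ).app ((DTen.QQ R').obj (extPair φ T₀ K₀)) := by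
  dsimp only [alpha]
  rw [Category.assoc]
  erw [← resPF_naturality φ ((DTen.baseCmp φ).app T₀) ((DTen.baseCmp φ).app K₀)]
  rw [← Category.assoc, ← Functor.map_comp]
  congr 2
  exact Prod.ext (DTen.baseCmp_fac φ T₀) (DTen.baseCmp_fac φ K₀)

omit [DTen.HasLBase φ] in
theorem E2 (X : DRing.Cx R' × DRing.Cx R') :
    (DTen.resPF φ).app ((DTen.QQ R').obj X) ≫ (DRing.restrictD φ).map ((DTen.ε R').app X) =
      (DTen.resβA φ).app X ≫ (DTen.resFactors φ).inv.app ((DTen.tensorT R').obj X) := by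
  rw [← DTen.resPF_fac φ X, Category.assoc]
  have : (DTen.resβB φ).app X = (DRing.restrictD φ).map ((DTen.ε R').app X) ≫
      (DTen.resFactors φ).hom.app ((DTen.tensorT R').obj X) := rfl
  rw [this, Category.assoc, Iso.hom_inv_id_app]
  exact (congrArg _ (Category.comp_id _)).symm

theorem E3 :
    (DTen.LTen₂ R).map (Prod.mkHom ((DTen.baseγ φ).app T₀) ((DTen.baseγ φ).app K₀)) ≫
        (DTen.resβA φ).app (extPair φ T₀ K₀) =
      (DTen.ε R).app (T₀, K₀) ≫ Q.map (theta φ T₀ K₀) := by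
  have hε := (DTen.ε R).naturality
    (Prod.mkHom ((DTen.unitCx φ).app T₀) ((DTen.unitCx φ).app K₀) :
      (T₀, K₀) ⟶ ((DTen.resCx φ).obj ((DTen.extCx φ).obj T₀),
        (DTen.resCx φ).obj ((DTen.extCx φ).obj K₀)))
  have hθ : Q.map (theta φ T₀ K₀) = (DTen.tensor₂ R).map
      (Prod.mkHom ((DTen.unitCx φ).app T₀) ((DTen.unitCx φ).app K₀) :
        (T₀, K₀) ⟶ ((DTen.resCx φ).obj ((DTen.extCx φ).obj T₀),
          (DTen.resCx φ).obj ((DTen.extCx φ).obj K₀))) ≫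
      Q.map (DTen.resTenCx φ ((DTen.extCx φ).obj T₀) ((DTen.extCx φ).obj K₀)) := by
    dsimp only [theta, Functor.comp_map]
    rw [← Functor.map_comp]
    congr 2
    exact MonoidalCategory.tensorHom_def _ _
  rw [hθ, ← Category.assoc, ← hε]
  have hA : (DTen.resβA φ).app (extPair φ T₀ K₀) =
      (DTen.LTen₂ R).map (Prod.mkHom ((DTen.resFactors φ).hom.app ((DTen.extCx φ).obj T₀))
        ((DTen.resFactors φ).hom.app ((DTen.extCx φ).obj K₀))) ≫
      (DTen.ε R).app ((DTen.resCx φ).obj ((DTen.extCx φ).obj T₀),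
        (DTen.resCx φ).obj ((DTen.extCx φ).obj K₀)) ≫
      Q.map (DTen.resTenCx φ ((DTen.extCx φ).obj T₀) ((DTen.extCx φ).obj K₀)) := rfl
  rw [hA, ← Category.assoc, ← Functor.map_comp, Category.assoc]
  congr 2
  congr 1
  refine Prod.ext ?_ ?_
  · dsimp [DTen.baseγ]
    rw [Category.assoc, Iso.inv_hom_id_app]
    exact Category.comp_id _
  · dsimp [DTen.baseγ]
    rw [Category.assoc, Iso.inv_hom_id_app]
    exact Category.comp_id _

theorem lhs_adjunct :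
    alpha φ (Q.obj T₀) (Q.obj K₀) ≫ (DRing.restrictD φ).map ((DTen.LTen₂ R').map
        (Prod.mkHom ((DTen.baseCmp φ).app T₀) ((DTen.baseCmp φ).app K₀))) ≫
        (DRing.restrictD φ).map ((DTen.ε R').app (extPair φ T₀ K₀)) =
      (DTen.ε R).app (T₀, K₀) ≫ Q.map (theta φ T₀ K₀) ≫
        (DTen.resFactors φ).inv.app ((DTen.tensorT R').obj (extPair φ T₀ K₀)) := by
  rw [← Category.assoc, E1, Category.assoc, E2, ← Category.assoc, E3, Category.assoc]

theorem rhs_adjunct :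
    (DTen.baseAdj φ).unit.app ((DTen.LTen₂ R).obj (Q.obj T₀, Q.obj K₀)) ≫
        (DRing.restrictD φ).map ((DTen.LBase φ).map ((DTen.ε R).app (T₀, K₀))) ≫
        (DRing.restrictD φ).map ((DTen.baseCmp φ).app ((DTen.tensorT R).obj (T₀, K₀))) ≫
        (DRing.restrictD φ).map (Q.map (thetaAdj φ T₀ K₀)) =
      (DTen.ε R).app (T₀, K₀) ≫ Q.map (theta φ T₀ K₀) ≫
        (DTen.resFactors φ).inv.app ((DTen.tensorT R').obj (extPair φ T₀ K₀)) := by
  have h1 := (DTen.baseAdj φ).unit.naturality ((DTen.ε R).app (T₀, K₀))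
  have h2 := DTen.baseCmp_fac φ ((DTen.tensorT R).obj (T₀, K₀))
  have h3 := (DTen.resFactors φ).inv.naturality (thetaAdj φ T₀ K₀)
  dsimp only [Functor.id_obj, Functor.id_map, Functor.comp_obj, Functor.comp_map] at h1 h3
  rw [← Category.assoc]
  erw [← h1]
  rw [Category.assoc, ← Category.assoc ((DTen.baseAdj φ).unit.app _)]
  erw [h2]
  dsimp only [DTen.baseγ]
  rw [Category.assoc]
  erw [← h3]
  rw [← Category.assoc (Q.map _), ← Functor.map_comp, unitCx_thetaAdj]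

theorem key :
    mu φ (Q.obj T₀) (Q.obj K₀) ≫ (DTen.LTen₂ R').map
        (Prod.mkHom ((DTen.baseCmp φ).app T₀) ((DTen.baseCmp φ).app K₀)) ≫
        (DTen.ε R').app (extPair φ T₀ K₀) =
      (DTen.LBase φ).map ((DTen.ε R).app (T₀, K₀)) ≫
        (DTen.baseCmp φ).app ((DTen.tensorT R).obj (T₀, K₀)) ≫ Q.map (thetaAdj φ T₀ K₀) := by
  apply ((DTen.baseAdj φ).homEquiv _ _).injective
  erw [Adjunction.homEquiv_unit, Adjunction.homEquiv_unit]
  simp only [Functor.map_comp]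
  erw [rhs_adjunct φ T₀ K₀, ← lhs_adjunct φ T₀ K₀, ← unit_mu φ (Q.obj T₀) (Q.obj K₀)]
  simp only [Category.assoc]

theorem isIso_mu_Q (hT : IsKFlat T₀) (hK : IsKFlat K₀) :
    IsIso (mu φ (Q.obj T₀) (Q.obj K₀)) := by
  have i1 : IsIso ((DTen.baseCmp φ).app T₀) :=
    Groth.Agent.Lib.Helper25.BaseCmp.isIso_baseCmp_app_of_isKFlat φ T₀ hT
  have i2 : IsIso ((DTen.baseCmp φ).app K₀) :=
    Groth.Agent.Lib.Helper25.BaseCmp.isIso_baseCmp_app_of_isKFlat φ K₀ hK
  have i3 : IsIso ((DTen.baseCmp φ).app ((DTen.tensorT R).obj (T₀, K₀))) :=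
    Groth.Agent.Lib.Helper25.BaseCmp.isIso_baseCmp_app_of_isKFlat φ _
      (Groth.Agent.Lib.Helper25.LTenCompute.isKFlat_tensor hT hK)
  have i4 : IsIso ((DTen.ε R).app (T₀, K₀)) :=
    Groth.Agent.Lib.Helper25.LTenCompute.isIso_ε_app T₀ K₀ (Or.inl hT)
  have i5 : IsIso ((DTen.ε R').app (extPair φ T₀ K₀)) :=
    Groth.Agent.Lib.Helper25.LTenCompute.isIso_ε_app _ _
      (Or.inl (Groth.Agent.Lib.Helper25.KFlat.isKFlat_extCx φ T₀ hT))
  have i6 : IsIso ((DTen.LTen₂ R').map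
      (Prod.mkHom ((DTen.baseCmp φ).app T₀) ((DTen.baseCmp φ).app K₀))) := by
    have : IsIso (Prod.mkHom ((DTen.baseCmp φ).app T₀) ((DTen.baseCmp φ).app K₀)) :=
      (isIso_prod_iff (f := Prod.mkHom ((DTen.baseCmp φ).app T₀) ((DTen.baseCmp φ).app K₀))).2
        ⟨i1, i2⟩
    infer_instance
  have i7 : IsIso (Q.map (thetaAdj φ T₀ K₀)) := inferInstance
  have i8 : IsIso ((DTen.LBase φ).map ((DTen.ε R).app (T₀, K₀))) := inferInstance
  have hk := key φ T₀ K₀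
  have i9 : IsIso (mu φ (Q.obj T₀) (Q.obj K₀) ≫ ((DTen.LTen₂ R').map
        (Prod.mkHom ((DTen.baseCmp φ).app T₀) ((DTen.baseCmp φ).app K₀)) ≫
        (DTen.ε R').app (extPair φ T₀ K₀))) := by
    rw [hk]
    infer_instance
  exact IsIso.of_isIso_comp_right _ ((DTen.LTen₂ R').map
        (Prod.mkHom ((DTen.baseCmp φ).app T₀) ((DTen.baseCmp φ).app K₀)) ≫
        (DTen.ε R').app (extPair φ T₀ K₀))

end KFlatCase

theorem isIso_mu (T K : Dual.D R) : IsIso (mu φ T K) := by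
  obtain ⟨T₀, -, hT, ⟨eT⟩⟩ := Groth.Agent.Lib.Helper25.LTenCompute.exists_kproj_kflat T
  obtain ⟨K₀, -, hK, ⟨eK⟩⟩ := Groth.Agent.Lib.Helper25.LTenCompute.exists_kproj_kflat K
  have h := mu_naturality φ eT.hom eK.hom
  have i1 := isIso_mu_Q φ T₀ K₀ hT hK
  have i2 : IsIso (Prod.mkHom eT.hom eK.hom) :=
    (isIso_prod_iff (f := Prod.mkHom eT.hom eK.hom)).2 ⟨inferInstance, inferInstance⟩
  have i3 : IsIso (Prod.mkHom ((DTen.LBase φ).map eT.hom) ((DTen.LBase φ).map eK.hom)) :=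
    (isIso_prod_iff (f := Prod.mkHom ((DTen.LBase φ).map eT.hom) ((DTen.LBase φ).map eK.hom))).2
      ⟨inferInstance, inferInstance⟩
  have i4 : IsIso ((DTen.LBase φ).map ((DTen.LTen₂ R).map (Prod.mkHom eT.hom eK.hom)) ≫
      mu φ T K) := by
    rw [h]
    infer_instance
  exact IsIso.of_isIso_comp_left ((DTen.LBase φ).map ((DTen.LTen₂ R).map (Prod.mkHom eT.hom eK.hom))) _

end Groth.Agent.Lib.Helper25.RHomBC
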